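import Mathlib

/-!
A maximal subgroup of a point stabiliser of an action containing all even permutations of an odd number
of points is a second maximal subgroup.
-/
set_option autoImplicit false

namespace CfsgLib.SecondMax

open MulAction

variable {G Ω : Type*} [Group G] [MulAction G Ω]

lemma exists_smul_three_cycle [Fintype Ω] [DecidableEq Ω]
    (hA : ∀ σ : Equiv.Perm Ω, Equiv.Perm.sign σ = 1 → ∃ g : G, ∀ x : Ω, g • x = σ x)
    {a b c : Ω} (hab : a ≠ b) (hbc : b ≠ c) (hac : a ≠ c) :
    ∃ g : G, g • a = b ∧ g • b = c ∧ g • c = a ∧ ∀ x, x ≠ a → x ≠ b → x ≠ c → g • x = x := by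
  obtain ⟨g, hg⟩ := hA (Equiv.swap a b * Equiv.swap b c) (by
    rw [map_mul, Equiv.Perm.sign_swap hab, Equiv.Perm.sign_swap hbc]; rfl)
  refine ⟨g, ?_, ?_, ?_, fun x hxa hxb hxc => ?_⟩
  · rw [hg, Equiv.Perm.mul_apply, Equiv.swap_apply_of_ne_of_ne hab hac, Equiv.swap_apply_left]
  · rw [hg, Equiv.Perm.mul_apply, Equiv.swap_apply_left, Equiv.swap_apply_of_ne_of_ne hac.symm hbc.symm]
  · rw [hg, Equiv.Perm.mul_apply, Equiv.swap_apply_right, Equiv.swap_apply_right]
  · rw [hg, Equiv.Perm.mul_apply, Equiv.swap_apply_of_ne_of_ne hxb hxc, Equiv.swap_apply_of_ne_of_ne hxa hxb]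

theorem isCoatom_subgroupOf_of_alternating [Finite G] [Fintype Ω] [DecidableEq Ω]
    (hodd : Odd (Fintype.card Ω))
    (hA : ∀ σ : Equiv.Perm Ω, Equiv.Perm.sign σ = 1 → ∃ g : G, ∀ x : Ω, g • x = σ x)
    (a : Ω) (H K L : Subgroup G)
    (hK : IsCoatom K) (hKM : K ⊓ stabilizer G a = H)
    (hmaxH : ∀ T : Subgroup G, H ≤ T → T ≤ stabilizer G a → T = H ∨ T = stabilizer G a)
    (hHL : H ≤ L) (hLK : L ≤ K) : L = H ∨ L = K := by
  classical
  by_cases hBa : ∀ l ∈ L, l • a = a
  · left
    refine le_antisymm ?_ hHL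
    rw [← hKM]
    exact le_inf hLK fun l hl => mem_stabilizer_iff.mpr (hBa l hl)
  push Not at hBa
  obtain ⟨l1, hl1, hl1a⟩ := hBa
  by_cases hBS : ∀ k ∈ K, ∃ l ∈ L, l • a = k • a
  · right
    refine le_antisymm hLK fun k hk => ?_
    obtain ⟨l, hl, hla⟩ := hBS k hk
    have hmem : l⁻¹ * k ∈ H := by
      rw [← hKM]
      exact ⟨K.mul_mem (K.inv_mem (hLK hl)) hk,
        mem_stabilizer_iff.mpr (by rw [mul_smul, ← hla, inv_smul_smul])⟩
    have := L.mul_mem hl (hHL hmem)
    rwa [mul_inv_cancel_left] at this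
  push Not at hBS
  obtain ⟨k, hk, hkB⟩ := hBS
  exfalso
  -- block property
  have blk : ∀ k ∈ K, ∀ l l' : G, l ∈ L → l' ∈ L → k • l • a = l' • a → k ∈ L := by
    intro k hk l l' hl hl' h
    have hmem : l'⁻¹ * (k * l) ∈ H := by
      rw [← hKM]
      refine ⟨K.mul_mem (K.inv_mem (hLK hl')) (K.mul_mem hk (hLK hl)), mem_stabilizer_iff.mpr ?_⟩
      rw [mul_smul, mul_smul, h, inv_smul_smul]
    have := L.mul_mem (L.mul_mem hl' (hHL hmem)) (L.inv_mem hl)
    simpa [mul_assoc] using this
  set b := l1 • a with hb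
  set c := k • a with hc
  set d := k • b with hd
  have hcB : ∀ l ∈ L, c ≠ l • a := fun l hl h => hkB l hl h.symm
  have hdB : ∀ l ∈ L, d ≠ l • a := by
    intro l hl h
    have hkL : k ∈ L := blk k hk l1 l hl1 hl h
    exact hkB k hkL rfl
  have hab : b ≠ a := hl1a
  have hca : c ≠ a := fun h => hcB 1 L.one_mem (by rw [h, one_smul])
  have hcb : c ≠ b := hcB l1 hl1
  have hda : d ≠ a := fun h => hdB 1 L.one_mem (by rw [h, one_smul])
  have hdb : d ≠ b := hdB l1 hl1
  have hdc : d ≠ c := fun h => hab (MulAction.injective k h)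
  set S := MulAction.orbit K a with hS
  have memS : ∀ x, x ∈ S ↔ ∃ k' ∈ K, k' • a = x := by
    intro x
    constructor
    · rintro ⟨⟨k', hk'⟩, rfl⟩; exact ⟨k', hk', rfl⟩
    · rintro ⟨k', hk', rfl⟩; exact ⟨⟨k', hk'⟩, rfl⟩
  -- 3-cycle (b c d), fixing a
  obtain ⟨g, hgb, hgc, hgd, hgfix⟩ := exists_smul_three_cycle hA hcb.symm hdc.symm hdb.symm
  have hga : g • a = a := hgfix a hab.symm hca.symm hda.symm
  have hgK : g ∉ K := by
    intro hgK
    have hgH : g ∈ H := hKM ▸ ⟨hgK, mem_stabilizer_iff.mpr hga⟩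
    exact hcB (g * l1) (L.mul_mem (hHL hgH) hl1) (by rw [mul_smul]; exact hgb.symm)
  by_cases htrans : ∀ x, x ∈ S
  · -- K transitive: K preserves the block system
    let P : Subgroup G :=
      { carrier := {x | ∀ u ∈ K, ∃ u' ∈ K, ∀ l ∈ L, (∃ l' ∈ L, x • u • l • a = u' • l' • a)}
        one_mem' := fun u hu => ⟨u, hu, fun l hl => ⟨l, hl, one_smul _ _⟩⟩
        mul_mem' := by
          intro x y hx hy u hu
          obtain ⟨u', hu', h'⟩ := hy u hu
          obtain ⟨u'', hu'', h''⟩ := hx u' hu'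
          refine ⟨u'', hu'', fun l hl => ?_⟩
          obtain ⟨l', hl', e'⟩ := h' l hl
          obtain ⟨l'', hl'', e''⟩ := h'' l' hl'
          exact ⟨l'', hl'', by rw [mul_smul, e', e'']⟩
        inv_mem' := by
          intro x hx
          -- x has finite order, so x⁻¹ is a power of x
          obtain ⟨m, -, hm⟩ := (isOfFinOrder_of_finite x).exists_pow_eq_one
          intro u hu
          have hpow : ∀ i : ℕ, ∀ u ∈ K, ∃ u' ∈ K, ∀ l ∈ L, (∃ l' ∈ L, (x ^ i) • u • l • a = u' • l' • a) := by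
            intro i
            induction i with
            | zero => exact fun u hu => ⟨u, hu, fun l hl => ⟨l, hl, by simp⟩⟩
            | succ i ih =>
              intro u hu
              obtain ⟨u', hu', h'⟩ := ih u hu
              obtain ⟨u'', hu'', h''⟩ := hx u' hu'
              refine ⟨u'', hu'', fun l hl => ?_⟩
              obtain ⟨l', hl', e'⟩ := h' l hl
              obtain ⟨l'', hl'', e''⟩ := h'' l' hl'
              exact ⟨l'', hl'', by rw [pow_succ', mul_smul, e', e'']⟩
          have hinv : ∃ i : ℕ, x⁻¹ = x ^ i := by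
            refine ⟨orderOf x - 1, ?_⟩
            rw [inv_eq_iff_mul_eq_one, ← pow_succ', Nat.sub_add_cancel (orderOf_pos x), pow_orderOf_eq_one]
          obtain ⟨i, hi⟩ := hinv
          rw [hi]; exact hpow i u hu }
    have hKP : K ≤ P := fun x hx u hu =>
      ⟨x * u, K.mul_mem hx hu, fun l hl => ⟨l, hl, (mul_smul _ _ _).symm⟩⟩
    have hgP : g ∉ P := by
      intro hgP
      obtain ⟨u', hu', h'⟩ := hgP 1 K.one_mem
      obtain ⟨la, hla, ea⟩ := h' 1 L.one_mem
      obtain ⟨lb, hlb, eb⟩ := h' l1 hl1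
      rw [one_smul, one_smul, hga] at ea
      rw [one_smul, ← hb, hgb] at eb
      have hu'L : u' ∈ L := blk u' hu' la 1 hla L.one_mem (by rw [one_smul, ← ea])
      exact hcB (u' * lb) (L.mul_mem hu'L hlb) (by rw [mul_smul, eb])
    have hPK : P = K := ((hK.le_iff.mp hKP).resolve_left fun h => hgP (h ▸ Subgroup.mem_top g))
    -- the stabiliser of the block in the stabiliser of a
    let T : Subgroup G :=
      { carrier := {x | x • a = a ∧ ∀ y, (∃ l ∈ L, y = l • a) ↔ (∃ l ∈ L, x • y = l • a)}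
        one_mem' := ⟨one_smul _ _, fun y => by simp⟩
        mul_mem' := by
          rintro x y ⟨hx, hx'⟩ ⟨hy, hy'⟩
          exact ⟨by rw [mul_smul, hy, hx], fun z => by rw [mul_smul]; exact (hy' z).trans (hx' _)⟩
        inv_mem' := by
          rintro x ⟨hx, hx'⟩
          refine ⟨by rw [inv_smul_eq_iff, hx], fun z => ?_⟩
          have := hx' (x⁻¹ • z)
          rw [smul_inv_smul] at this
          exact this.symm }
    have hHT : H ≤ T := by
      intro h hh
      have hh' : h ∈ K ⊓ stabilizer G a := hKM ▸ hh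
      refine ⟨mem_stabilizer_iff.mp hh'.2, fun y => ?_⟩
      constructor
      · rintro ⟨l, hl, rfl⟩; exact ⟨h * l, L.mul_mem (hHL hh) hl, (mul_smul _ _ _).symm⟩
      · rintro ⟨l, hl, e⟩
        exact ⟨h⁻¹ * l, L.mul_mem (L.inv_mem (hHL hh)) hl, by rw [mul_smul, ← e, inv_smul_smul]⟩
    rcases hmaxH T hHT (fun x hx => mem_stabilizer_iff.mpr hx.1) with hTH | hTM
    · -- find a third block
      obtain ⟨e, heB, heC⟩ : ∃ e, (∀ l ∈ L, e ≠ l • a) ∧ (∀ l ∈ L, e ≠ k • l • a) := by
        by_contra hcon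
        push Not at hcon
        set Bf : Finset Ω := Finset.univ.filter (fun x => ∃ l ∈ L, x = l • a) with hBf
        have hu : (Finset.univ : Finset Ω) = Bf ∪ Bf.image (k • ·) := by
          ext x
          simp only [Finset.mem_univ, Finset.mem_union, Finset.mem_image, hBf, Finset.mem_filter, true_and,
            true_iff]
          by_cases hx : ∃ l ∈ L, x = l • a
          · exact Or.inl hx
          · push Not at hx
            obtain ⟨l, hl, e⟩ := hcon x hx
            exact Or.inr ⟨l • a, ⟨l, hl, rfl⟩, e.symm⟩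
        have hdisj : Disjoint Bf (Bf.image (k • ·)) := by
          rw [Finset.disjoint_left]
          intro x hx hx'
          obtain ⟨y, hy, rfl⟩ := Finset.mem_image.mp hx'
          obtain ⟨-, l, hl, rfl⟩ := Finset.mem_filter.mp hy
          obtain ⟨-, l', hl', e⟩ := Finset.mem_filter.mp hx
          exact hkB k (blk k hk l l' hl hl' e) rfl
        have := congrArg Finset.card hu
        rw [Finset.card_univ, Finset.card_union_of_disjoint hdisj,
          Finset.card_image_of_injective _ (MulAction.injective k)] at this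
        exact (Nat.not_even_iff_odd.mpr hodd) ⟨_, this⟩
      obtain ⟨v, hv, hve⟩ := (memS e).mp (htrans e)
      set f := v • b with hf
      have hfB : ∀ l ∈ L, f ≠ l • a := by
        intro l hl h
        exact heB v (blk v hv l1 l hl1 hl h) hve.symm
      have hfC : ∀ l ∈ L, f ≠ k • l • a := by
        intro l hl h
        have hkv : k⁻¹ * v ∈ L := blk (k⁻¹ * v) (K.mul_mem (K.inv_mem hk) hv) l1 l hl1 hl
          (by rw [mul_smul, inv_smul_eq_iff]; exact h)
        exact heC _ hkv (by rw [mul_smul, smul_inv_smul, hve])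
      have hef : e ≠ f := fun h => hab (MulAction.injective v (h.symm.trans hve.symm))
      have hce : c ≠ e := fun h => heC 1 L.one_mem (by rw [one_smul]; exact h.symm)
      have hcf : c ≠ f := fun h => hfC 1 L.one_mem (by rw [one_smul]; exact h.symm)
      have hde : d ≠ e := fun h => heC l1 hl1 h.symm
      have hdf : d ≠ f := fun h => hfC l1 hl1 h.symm
      obtain ⟨s, hsc, hse, hsf, hsfix⟩ := exists_smul_three_cycle hA hce hef hcf
      have hsB : ∀ l ∈ L, s • l • a = l • a := fun l hl =>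
        hsfix _ (fun h => hcB l hl h.symm) (fun h => heB l hl h.symm) (fun h => hfB l hl h.symm)
      have hsT : s ∈ T := by
        refine ⟨by simpa using hsB 1 L.one_mem, fun y => ?_⟩
        constructor
        · rintro ⟨l, hl, rfl⟩; exact ⟨l, hl, hsB l hl⟩
        · rintro ⟨l, hl, h⟩; exact ⟨l, hl, MulAction.injective s (h.trans (hsB l hl).symm)⟩
      have hsK : s ∈ P := hKP (hKM ▸ hTH ▸ hsT : s ∈ K ⊓ stabilizer G a).1
      obtain ⟨u', hu', h'⟩ := hsK k hk
      obtain ⟨lc, hlc, ec⟩ := h' 1 L.one_mem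
      obtain ⟨ld, hld, ed⟩ := h' l1 hl1
      rw [one_smul, ← hc, hsc] at ec
      rw [← hb, ← hd, hsfix d hdc hde hdf] at ed
      have hvu : v⁻¹ * u' ∈ L := blk (v⁻¹ * u') (K.mul_mem (K.inv_mem hv) hu') lc 1 hlc L.one_mem
        (by rw [one_smul, mul_smul, inv_smul_eq_iff, ← ec, hve])
      have hkv : k⁻¹ * v ∈ L := by
        refine blk (k⁻¹ * v) (K.mul_mem (K.inv_mem hk) hv) (v⁻¹ * u' * ld) l1 (L.mul_mem hvu hld) hl1 ?_
        rw [mul_smul, mul_smul, mul_smul, smul_inv_smul, inv_smul_eq_iff, ← hb, ← hd, ed]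
      exact heC _ hkv (by rw [mul_smul, smul_inv_smul, hve])
    · have hgT : g ∈ T := hTM ▸ mem_stabilizer_iff.mpr hga
      obtain ⟨l, hl, e⟩ := (hgT.2 b).mp ⟨l1, hl1, rfl⟩
      exact hcB l hl (hgb.symm.trans e)
  · -- K intransitive: K is the setwise stabiliser of its orbit
    push Not at htrans
    obtain ⟨w, hw⟩ := htrans
    let P : Subgroup G :=
      { carrier := {x | ∀ y, y ∈ S ↔ x • y ∈ S}
        one_mem' := fun y => by simp
        mul_mem' := fun {x y} hx hy z => by rw [mul_smul]; exact (hy z).trans (hx _)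
        inv_mem' := fun {x} hx z => by
          have := hx (x⁻¹ • z)
          rw [smul_inv_smul] at this
          exact this.symm }
    have hKP : K ≤ P := by
      intro x hx y
      rw [memS, memS]
      constructor
      · rintro ⟨k', hk', rfl⟩; exact ⟨x * k', K.mul_mem hx hk', mul_smul _ _ _⟩
      · rintro ⟨k', hk', e⟩; exact ⟨x⁻¹ * k', K.mul_mem (K.inv_mem hx) hk', by rw [mul_smul, e, inv_smul_smul]⟩
    have haS : a ∈ S := (memS a).mpr ⟨1, K.one_mem, one_smul _ _⟩
    have hwa : w ≠ a := fun h => hw (h ▸ haS)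
    have hbS : b ∈ S := (memS b).mpr ⟨l1, hLK hl1, rfl⟩
    have hcS : c ∈ S := (memS c).mpr ⟨k, hk, rfl⟩
    have hdS : d ∈ S := (memS d).mpr ⟨k * l1, K.mul_mem hk (hLK hl1), mul_smul _ _ _⟩
    have hPK : P = K := by
      refine (hK.le_iff.mp hKP).resolve_left fun h => ?_
      obtain ⟨s, hsa, -, -, -⟩ := exists_smul_three_cycle hA hwa.symm (fun e : w = b => hw (e ▸ hbS)) hab.symm
      have hs : s ∈ P := h ▸ Subgroup.mem_top s
      exact hw (hsa ▸ (hs a).mp haS)
    refine hgK (hPK ▸ fun y => ?_)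
    by_cases h1 : y = b
    · subst h1; rw [hgb]; exact iff_of_true hbS hcS
    by_cases h2 : y = c
    · subst h2; rw [hgc]; exact iff_of_true hcS hdS
    by_cases h3 : y = d
    · subst h3; rw [hgd]; exact iff_of_true hdS hbS
    rw [hgfix y h1 h2 h3]

theorem second_maximal [Finite G] (n : ℕ) (hodd : Odd n)
    (hA : ∀ P : Subgroup (Equiv.Perm (Fin n)), MulAction.IsPreprimitive P (Fin n) → alternatingGroup (Fin n) ≤ P)
    (M : Subgroup G) (hM : IsCoatom M) (hn : M.index = n) (H : Subgroup G) (hHM : H ≤ M)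
    (hmax : IsCoatom (H.subgroupOf M)) (K : Subgroup G) (hK : IsCoatom K) (hHK : H ≤ K) :
    IsCoatom (H.subgroupOf K) := by
  classical
  by_cases hKM' : K = M
  · subst hKM'; exact hmax
  have hmaxH : ∀ T : Subgroup G, H ≤ T → T ≤ M → T = H ∨ T = M := by
    intro T hHT hTM
    rcases hmax.le_iff.mp (show H.subgroupOf M ≤ T.subgroupOf M from Subgroup.comap_mono hHT) with h | h
    · exact Or.inr (le_antisymm hTM (Subgroup.subgroupOf_eq_top.mp h))
    · left
      have := congrArg (Subgroup.map M.subtype) h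
      rwa [Subgroup.subgroupOf_map_subtype, Subgroup.subgroupOf_map_subtype, inf_of_le_left hTM,
        inf_of_le_left hHM] at this
  have hKM : K ⊓ M = H := by
    rcases hmaxH (K ⊓ M) (le_inf hHK hHM) inf_le_right with h | h
    · exact h
    · exfalso
      have hle : M ≤ K := h ▸ inf_le_left
      exact hKM' ((hM.le_iff.mp hle).resolve_left hK.1)
  suffices hkey : ∀ L : Subgroup G, H ≤ L → L ≤ K → L = H ∨ L = K by
    refine ⟨fun htop => ?_, fun X hX => ?_⟩
    · have hKH : K ≤ H := Subgroup.subgroupOf_eq_top.mp htop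
      exact hKM' ((hK.le_iff.mp (hKH.trans hHM)).resolve_left hM.1).symm
    · have hle : H ≤ X.map K.subtype := by
        intro h hh
        exact ⟨⟨h, hHK hh⟩, hX.le (Subgroup.mem_subgroupOf.mpr hh), rfl⟩
      rcases hkey _ hle (Subgroup.map_subtype_le X) with e | e
      · exfalso
        refine hX.not_ge ?_
        intro x hx
        rw [Subgroup.mem_subgroupOf, ← e]
        exact ⟨x, hx, rfl⟩
      · rw [eq_top_iff]
        intro x _
        obtain ⟨y, hy, hyx⟩ : (x : G) ∈ X.map K.subtype := e.symm ▸ x.2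
        rwa [Subtype.ext hyx] at hy
  intro L hHL hLK
  by_cases hN : M.normalCore ≤ H
  · letI := Fintype.ofFinite (G ⧸ M)
    have hcard : Fintype.card (G ⧸ M) = n := by
      rw [← Nat.card_eq_fintype_card, ← Subgroup.index_eq_card, hn]
    have hn1 : n ≠ 1 := fun h => hM.1 (Subgroup.index_eq_one.mp (hn.trans h))
    have hnt : Nontrivial (G ⧸ M) := Fintype.one_lt_card_iff_nontrivial.mp (by
      obtain ⟨j, rfl⟩ := hodd; omega)
    have hprim : MulAction.IsPreprimitive G (G ⧸ M) := by
      rw [← MulAction.isCoatom_stabilizer_iff_preprimitive G ((1 : G) : G ⧸ M),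
        MulAction.stabilizer_quotient]
      exact hM
    let e : G ⧸ M ≃ Fin n := Fintype.equivFinOfCardEq hcard
    let φ : G →* Equiv.Perm (Fin n) := (Equiv.permCongrHom e).toMonoidHom.comp (MulAction.toPermHom G (G ⧸ M))
    have hφ : ∀ g x, φ g (e x) = e (g • x) := by
      intro g x; simp [φ, Equiv.permCongrHom]
    let f : (G ⧸ M) →ₑ[φ.rangeRestrict] Fin n :=
      { toFun := e, map_smul' := fun g x => (hφ g x).symm }
    have := MulAction.IsPreprimitive.of_surjective (f := f) e.surjective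
    have hrange := hA φ.range this
    refine isCoatom_subgroupOf_of_alternating (Ω := G ⧸ M) (by rw [hcard]; exact hodd) ?_
      ((1 : G) : G ⧸ M) H K L hK (by rw [MulAction.stabilizer_quotient]; exact hKM)
      (by rw [MulAction.stabilizer_quotient]; exact hmaxH) hHL hLK
    intro σ hσ
    obtain ⟨g, hg⟩ := hrange (Equiv.Perm.mem_alternatingGroup.mpr
      (show Equiv.Perm.sign (e.permCongr σ) = 1 by rw [Equiv.Perm.sign_permCongr]; exact hσ))
    refine ⟨g, fun x => e.injective ?_⟩
    rw [← hφ, hg, Equiv.permCongr_apply, Equiv.symm_apply_apply]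
  · have hHN : H ⊔ M.normalCore = M := by
      rcases hmaxH _ le_sup_left (sup_le hHM (Subgroup.normalCore_le M)) with h | h
      · exact absurd (h ▸ le_sup_right) hN
      · exact h
    rcases hM.le_iff.mp (hHN.symm.le.trans (sup_le_sup_right hHL _) : M ≤ L ⊔ M.normalCore) with h | h
    · right
      refine le_antisymm hLK fun x hx => ?_
      obtain ⟨l, hl, y, hy, rfl⟩ := Subgroup.mem_sup_of_normal_right.mp
        (h.symm ▸ Subgroup.mem_top x : x ∈ L ⊔ M.normalCore)
      have hyK : y ∈ K := by simpa using K.mul_mem (K.inv_mem (hLK hl)) hx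
      have hyH : y ∈ H := hKM ▸ ⟨hyK, Subgroup.normalCore_le M hy⟩
      exact L.mul_mem hl (hHL hyH)
    · left
      refine le_antisymm ?_ hHL
      rw [← hKM]
      exact le_inf hLK (h ▸ le_sup_left)

end CfsgLib.SecondMax
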